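import Groth.Agent.HilbPtsLib.Closed
import Groth.Agent.HilbPtsLib.SpecId
import Groth.Prelude.Def_FGA

/-!
# Hilbert functors of open subschemes
-/

set_option autoImplicit false
set_option linter.style.haveILetI false
set_option linter.unusedSectionVars false
set_option backward.isDefEq.respectTransparency false
set_option backward.isDefEq.respectTransparency.types false

universe u

open CategoryTheory CategoryTheory.Limits AlgebraicGeometry TopologicalSpace

noncomputable section

namespace MorSch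

variable {W X S : Scheme.{u}} (f : X ⟶ S)

theorem hilbPull_eq {T T' : Over S} (g : T' ⟶ T) (I : (PicF.XT f T).IdealSheafData) :
    FGA.hilbPull f g I = I.comap (HilbPts.m f g.left (Over.w g)) := HilbPts.pull_eq f g I

/-- The change of ambient space. -/
def amb (j : W ⟶ X) (T : Over S) : PicF.XT (j ≫ f) T ⟶ PicF.XT f T :=
  pullback.map (j ≫ f) T.hom f T.hom j (𝟙 T.left) (𝟙 S) (Category.comp_id _) ((Category.comp_id _).trans (Category.id_comp _).symm)

@[reassoc (attr := simp)]
theorem amb_fst (j : W ⟶ X) (T : Over S) :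
    amb f j T ≫ pullback.fst f T.hom = pullback.fst (j ≫ f) T.hom ≫ j := pullback.lift_fst _ _ _

@[reassoc (attr := simp)]
theorem amb_snd (j : W ⟶ X) (T : Over S) :
    amb f j T ≫ pullback.snd f T.hom = pullback.snd (j ≫ f) T.hom :=
  (pullback.lift_snd _ _ _).trans (Category.comp_id _)

theorem amb_proj (j : W ⟶ X) (T : Over S) : amb f j T ≫ PicF.XTproj f T = PicF.XTproj (j ≫ f) T :=
  amb_snd f j T

theorem isPullback_amb (j : W ⟶ X) (T : Over S) :
    IsPullback (pullback.fst (j ≫ f) T.hom) (amb f j T) j (pullback.fst f T.hom) :=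
  IsPullback.of_bot (h₁₁ := pullback.fst (j ≫ f) T.hom)
    (by rw [amb_snd]; exact IsPullback.of_hasPullback _ _) (amb_fst f j T).symm (IsPullback.of_hasPullback f T.hom)

instance isImmersion_amb (j : W ⟶ X) [IsImmersion j] (T : Over S) : IsImmersion (amb f j T) :=
  MorphismProperty.of_isPullback (P := @IsImmersion) (isPullback_amb f j T) inferInstance

instance isOpenImmersion_amb (j : W ⟶ X) [IsOpenImmersion j] (T : Over S) : IsOpenImmersion (amb f j T) :=
  MorphismProperty.of_isPullback (P := @IsOpenImmersion) (isPullback_amb f j T) inferInstance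

/-- Proper families in the smaller space are closed in the larger. -/
theorem isClosedImmersion_comp_amb [IsSeparated f] (j : W ⟶ X) [IsImmersion j] {T : Over S}
    (V : FGA.HilbSet (j ≫ f) T) : IsClosedImmersion (V.1.subschemeι ≫ amb f j T) := by
  haveI : IsSeparated (PicF.XTproj f T) := inferInstanceAs (IsSeparated (pullback.snd f T.hom))
  haveI : IsProper ((V.1.subschemeι ≫ amb f j T) ≫ PicF.XTproj f T) := by
    rw [Category.assoc, amb_proj]; exact V.2.1
  haveI : IsImmersion (V.1.subschemeι ≫ amb f j T) := inferInstance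
  haveI : UniversallyClosed (V.1.subschemeι ≫ amb f j T) :=
    UniversallyClosed.of_comp_of_isSeparated _ (PicF.XTproj f T)
  exact IsClosedImmersion.iff_isPreimmersion.2 ⟨inferInstance, (V.1.subschemeι ≫ amb f j T).isClosedMap.isClosed_range⟩

theorem comap_push [IsSeparated f] (j : W ⟶ X) [IsImmersion j] {T : Over S} (V : FGA.HilbSet (j ≫ f) T) :
    (V.1.subschemeι ≫ amb f j T).ker.comap (amb f j T) = V.1 := by
  haveI := isClosedImmersion_comp_amb f j V
  exact (HilbPts.comap_ker_comp V.1.subschemeι (amb f j T)).trans V.1.ker_subschemeι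

/-- The pushed family. -/
def pushSet [IsSeparated f] (j : W ⟶ X) [IsImmersion j] {T : Over S} (V : FGA.HilbSet (j ≫ f) T) : FGA.HilbSet f T :=
  ⟨(V.1.subschemeι ≫ amb f j T).ker, by
    haveI := isClosedImmersion_comp_amb f j V
    have e : (V.1.subschemeι ≫ amb f j T).toImage ≫ (V.1.subschemeι ≫ amb f j T).ker.subschemeι ≫ PicF.XTproj f T =
        V.1.subschemeι ≫ PicF.XTproj (j ≫ f) T := by
      rw [← Category.assoc, show (V.1.subschemeι ≫ amb f j T).toImage ≫ (V.1.subschemeι ≫ amb f j T).ker.subschemeι =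
        V.1.subschemeι ≫ amb f j T from Scheme.Hom.toImage_imageι _, Category.assoc, amb_proj]
    exact ⟨(MorphismProperty.cancel_left_of_respectsIso @IsProper _ _).1 (e ▸ V.2.1),
      (MorphismProperty.cancel_left_of_respectsIso @Flat _ _).1 (e ▸ V.2.2)⟩⟩

theorem map_comap_of_range_subset {P Q : Scheme.{u}} (e : P ⟶ Q) [IsOpenImmersion e] (K : Q.IdealSheafData)
    (hK : (K.support : Set Q) ⊆ Set.range e) : ((K.comap e).subschemeι ≫ e).ker = K := by
  let c := IsOpenImmersion.lift e K.subschemeι (by rw [Scheme.IdealSheafData.range_subschemeι]; exact hK)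
  have hc : c ≫ e = K.subschemeι := IsOpenImmersion.lift_fac _ _ _
  haveI : IsClosedImmersion (c ≫ e) := by rw [hc]; infer_instance
  have hK' : K = (c ≫ e).ker := by rw [hc, Scheme.IdealSheafData.ker_subschemeι]
  rw [hK', HilbPts.comap_ker_comp c e]
  exact Scheme.IdealSheafData.map_ker c e

theorem hilb_open [IsSeparated f] (j : W ⟶ X) [IsOpenImmersion j] (H : Over S) (Z : FGA.HilbSet f H)
    (hH : FGA.HilbRepresentedBy f H Z) :
    ∃ (H₀ : H.left.Opens) (Z₀ : FGA.HilbSet (j ≫ f) (Over.mk (H₀.ι ≫ H.hom))),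
      Z₀.1 = Z.1.comap (pullback.map (j ≫ f) (H₀.ι ≫ H.hom) f H.hom j H₀.ι (𝟙 S)
        (Category.comp_id _) (Category.comp_id _)) ∧
      FGA.HilbRepresentedBy (j ≫ f) (Over.mk (H₀.ι ≫ H.hom)) Z₀ := by
  haveI : IsProper (Z.1.subschemeι ≫ PicF.XTproj f H) := Z.2.1
  let H₀ : H.left.Opens := ⟨((Z.1.subschemeι ≫ PicF.XTproj f H) ''
      ((Z.1.subschemeι ≫ pullback.fst f H.hom) ⁻¹' (Set.range j)ᶜ))ᶜ,
    ((Z.1.subschemeι ≫ PicF.XTproj f H).isClosedMap _ (j.isOpenEmbedding.isOpen_range.isClosed_compl.preimage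
      (Z.1.subschemeι ≫ pullback.fst f H.hom).continuous)).isOpen_compl⟩
  let H₀' : Over S := Over.mk (H₀.ι ≫ H.hom)
  let ι₀ : H₀' ⟶ H := Over.homMk H₀.ι rfl
  have range_amb : ∀ T : Over S, Set.range (amb f j T) = pullback.fst f T.hom ⁻¹' Set.range j := fun T =>
    Set.eq_of_subset_of_subset
      (by rintro _ ⟨z, rfl⟩; exact ⟨_, congrArg (fun e : _ ⟶ X => e z) (isPullback_amb f j T).w⟩)
      (by
        rintro z ⟨w, hw⟩
        obtain ⟨v, -, hv⟩ := Scheme.exists_preimage_of_isPullback (isPullback_amb f j T) w z hw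
        exact ⟨v, hv⟩)
  have hsupp : ∀ {T : Over S} (g : T ⟶ H), Set.range g.left ⊆ H₀ ↔
      ((Z.1.comap (HilbPts.m f g.left (Over.w g))).support : Set _) ⊆ Set.range (amb f j T) := fun {T} g => by
    have sq := HilbPts.isPullback_comap_m f g.left (Over.w g) Z.1
    rw [range_amb, ← Scheme.IdealSheafData.range_subschemeι]
    constructor
    · rintro h _ ⟨z, rfl⟩
      by_contra hz
      refine h ⟨_, rfl⟩ ⟨_, ?_, congrArg (fun e : _ ⟶ H.left => e z) sq.w⟩
      intro hmem
      refine hz ?_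
      show pullback.fst f T.hom ((Z.1.comap _).subschemeι z) ∈ Set.range j
      have e2 : ((Z.1.comapIso (HilbPts.m f g.left (Over.w g))).hom ≫ pullback.snd _ Z.1.subschemeι) ≫ Z.1.subschemeι ≫
          pullback.fst f H.hom = (Z.1.comap (HilbPts.m f g.left (Over.w g))).subschemeι ≫ pullback.fst f T.hom := by
        rw [Category.assoc, ← pullback.condition_assoc, HilbPts.m_fst,
          Scheme.IdealSheafData.comapIso_hom_fst_assoc]
      rw [← Scheme.Hom.comp_apply, ← e2]
      exact hmem
    · rintro h _ ⟨t, rfl⟩ ⟨z, hz, hzt⟩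
      obtain ⟨w, hw, hw'⟩ := Scheme.exists_preimage_of_isPullback sq z t hzt
      refine hz ?_
      have e2 : ((Z.1.comapIso (HilbPts.m f g.left (Over.w g))).hom ≫ pullback.snd _ Z.1.subschemeι) ≫ Z.1.subschemeι ≫
          pullback.fst f H.hom = (Z.1.comap (HilbPts.m f g.left (Over.w g))).subschemeι ≫ pullback.fst f T.hom := by
        rw [Category.assoc, ← pullback.condition_assoc, HilbPts.m_fst,
          Scheme.IdealSheafData.comapIso_hom_fst_assoc]
      show (Z.1.subschemeι ≫ pullback.fst f H.hom) z ∈ Set.range j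
      rw [← hw, ← Scheme.Hom.comp_apply, e2]
      exact h ⟨w, rfl⟩
  have hrange : Set.range ι₀.left ⊆ (H₀ : Set H.left) := (Scheme.Opens.range_ι H₀).le
  let I₀ := (Z.1.comap (HilbPts.m f ι₀.left (Over.w ι₀))).comap (amb f j H₀')
  have e₀ : I₀ = Z.1.comap (pullback.map (j ≫ f) (H₀.ι ≫ H.hom) f H.hom j H₀.ι (𝟙 S)
      (Category.comp_id _) (Category.comp_id _)) := by
    refine (Scheme.IdealSheafData.comap_comp _ _ _).symm.trans ?_
    congr 1
    refine pullback.hom_ext ?_ ?_ <;> simp [amb, HilbPts.m, H₀', ι₀]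
  let K := Z.1.comap (HilbPts.m f ι₀.left (Over.w ι₀))
  have hK : (K.support : Set _) ⊆ Set.range (amb f j H₀') := (hsupp ι₀).1 hrange
  have hP : IsProper (I₀.subschemeι ≫ PicF.XTproj (j ≫ f) H₀') ∧ Flat (I₀.subschemeι ≫ PicF.XTproj (j ≫ f) H₀') := by
    have sq := HilbPts.isPullback_comap_m f ι₀.left (Over.w ι₀) Z.1
    have hKP : IsProper (K.subschemeι ≫ PicF.XTproj f H₀') ∧ Flat (K.subschemeι ≫ PicF.XTproj f H₀') :=
      ⟨MorphismProperty.of_isPullback (P := @IsProper) sq Z.2.1, MorphismProperty.of_isPullback (P := @Flat) sq Z.2.2⟩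
    let c := IsOpenImmersion.lift (amb f j H₀') K.subschemeι (by rw [Scheme.IdealSheafData.range_subschemeι]; exact hK)
    have hc : c ≫ amb f j H₀' = K.subschemeι := IsOpenImmersion.lift_fac _ _ _
    haveI : IsClosedImmersion (c ≫ amb f j H₀') := by rw [hc]; infer_instance
    haveI : IsClosedImmersion c := IsClosedImmersion.of_comp c (amb f j H₀')
    have hI : I₀ = c.ker := by
      show K.comap (amb f j H₀') = _
      conv_lhs => rw [← K.ker_subschemeι, ← hc]
      exact HilbPts.comap_ker_comp c (amb f j H₀')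
    rw [hI]
    have e : K.subschemeι ≫ PicF.XTproj f H₀' = c.toImage ≫ c.ker.subschemeι ≫ PicF.XTproj (j ≫ f) H₀' := by
      rw [← hc, Category.assoc, amb_proj, ← Category.assoc c.toImage]
      congr 1
      exact c.toImage_imageι.symm
    exact ⟨(MorphismProperty.cancel_left_of_respectsIso @IsProper _ _).1 (e ▸ hKP.1),
      (MorphismProperty.cancel_left_of_respectsIso @Flat _ _).1 (e ▸ hKP.2)⟩
  refine ⟨H₀, ⟨I₀, hP⟩, e₀, ?_, fun T _ Y => ?_⟩
  · haveI := hH.1
    exact inferInstanceAs (IsLocallyNoetherian H₀.toScheme)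
  have nat : ∀ (u : T ⟶ H₀'), FGA.hilbPull (j ≫ f) u I₀ =
      (Z.1.comap (HilbPts.m f (u ≫ ι₀).left (Over.w (u ≫ ι₀)))).comap (amb f j T) := fun u => by
    rw [hilbPull_eq]
    simp only [I₀, ← Scheme.IdealSheafData.comap_comp]
    congr 1
    refine pullback.hom_ext ?_ ?_ <;> simp [HilbPts.m, amb]
  obtain ⟨g, hg, huniq⟩ := hH.2 T (pushSet f j Y)
  have hg' : Z.1.comap (HilbPts.m f g.left (Over.w g)) = (Y.1.subschemeι ≫ amb f j T).ker :=
    (hilbPull_eq f g _).symm.trans hg
  have hr : Set.range g.left ⊆ H₀ := (hsupp g).2 (by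
    haveI := isClosedImmersion_comp_amb f j Y
    rw [hg', Scheme.Hom.support_ker]
    refine (closure_minimal Set.Subset.rfl (Y.1.subschemeι ≫ amb f j T).isClosedMap.isClosed_range).trans ?_
    rintro _ ⟨z, rfl⟩
    exact ⟨Y.1.subschemeι z, rfl⟩)
  let u : T ⟶ H₀' := Over.homMk (IsOpenImmersion.lift H₀.ι g.left (hr.trans (Scheme.Opens.range_ι H₀).ge)) (by
    show _ ≫ H₀.ι ≫ H.hom = T.hom
    rw [IsOpenImmersion.lift_fac_assoc]; exact Over.w g)
  have hu : u ≫ ι₀ = g := Over.OverMorphism.ext (IsOpenImmersion.lift_fac _ _ _)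
  refine ⟨u, ?_, fun u' hu' => ?_⟩
  · show FGA.hilbPull (j ≫ f) u I₀ = Y.1
    rw [nat]
    simp only [hu, hg']
    exact comap_push f j Y
  · have hr' : Set.range (u' ≫ ι₀).left ⊆ H₀ := by
      rintro _ ⟨z, rfl⟩
      exact (u'.left z).2
    have h2 : (Z.1.comap (HilbPts.m f (u' ≫ ι₀).left (Over.w (u' ≫ ι₀)))).comap (amb f j T) = Y.1 :=
      (nat u').symm.trans hu'
    have h3 := huniq (u' ≫ ι₀) (by
      show FGA.hilbPull f (u' ≫ ι₀) Z.1 = (Y.1.subschemeι ≫ amb f j T).ker
      rw [hilbPull_eq, ← map_comap_of_range_subset (amb f j T) _ ((hsupp _).1 hr')]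
      rw [h2])
    refine Over.OverMorphism.ext ((cancel_mono H₀.ι).1 ?_)
    exact (congrArg CommaMorphism.left h3).trans (congrArg CommaMorphism.left hu).symm

theorem hilb_baseChange {S' : Scheme.{u}} [IsNoetherian S'] (h : S' ⟶ S) (H : Over S) (Z : FGA.HilbSet f H)
    (hH : FGA.HilbRepresentedBy f H Z) [LocallyOfFiniteType H.hom]
    (Z' : FGA.HilbSet (pullback.snd f h) (Over.mk (pullback.snd H.hom h)))
    (hZ' : Z'.1 = Z.1.comap (pullback.map (pullback.snd f h) (pullback.snd H.hom h) f H.hom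
      (pullback.fst f h) (pullback.fst H.hom h) h pullback.condition.symm pullback.condition.symm)) :
    FGA.HilbRepresentedBy (pullback.snd f h) (Over.mk (pullback.snd H.hom h)) Z' := by
  refine ⟨LocallyOfFiniteType.isLocallyNoetherian (pullback.snd H.hom h), fun T _ Y => ?_⟩
  haveI : IsLocallyNoetherian ((Over.map h).obj T).left := inferInstanceAs (IsLocallyNoetherian T.left)
  let κ : PicF.XT f ((Over.map h).obj T) ≅ PicF.XT (pullback.snd f h) T :=
    { hom := pullback.lift (pullback.lift (pullback.fst _ _) (pullback.snd _ _ ≫ T.hom)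
        (by rw [Category.assoc]; exact pullback.condition)) (pullback.snd _ _) (pullback.lift_snd _ _ _)
      inv := pullback.lift (pullback.fst _ _ ≫ pullback.fst _ _) (pullback.snd _ _) (by
        show _ = _ ≫ T.hom ≫ h
        rw [← pullback.condition_assoc, Category.assoc, pullback.condition])
      hom_inv_id := by refine pullback.hom_ext (by simp) (by simp)
      inv_hom_id := by
        refine pullback.hom_ext (pullback.hom_ext (by simp) ?_) (by simp)
        simp [← pullback.condition] }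
  have hκ : κ.hom ≫ PicF.XTproj (pullback.snd f h) T = PicF.XTproj f ((Over.map h).obj T) := pullback.lift_snd _ _ _
  have hc : ∀ I : (PicF.XT (pullback.snd f h) T).IdealSheafData,
      (I.comap κ.hom).subschemeι ≫ PicF.XTproj f ((Over.map h).obj T) =
        ((I.comapIso κ.hom).hom ≫ pullback.snd _ _) ≫ I.subschemeι ≫ PicF.XTproj (pullback.snd f h) T := fun I => by
    rw [Category.assoc, ← pullback.condition_assoc, Scheme.IdealSheafData.comapIso_hom_fst_assoc, hκ]
  haveI : IsIso κ.hom := κ.isIso_hom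
  haveI : IsIso (pullback.snd κ.hom Y.1.subschemeι) := pullback_snd_iso_of_left_iso κ.hom Y.1.subschemeι
  let Y₀ : FGA.HilbSet f ((Over.map h).obj T) := ⟨Y.1.comap κ.hom, by
    rw [hc]
    exact ⟨(MorphismProperty.cancel_left_of_respectsIso @IsProper _ _).2 Y.2.1,
      (MorphismProperty.cancel_left_of_respectsIso @Flat _ _).2 Y.2.2⟩⟩
  obtain ⟨g, hg, huniq⟩ := hH.2 _ Y₀
  let u : T ⟶ Over.mk (pullback.snd H.hom h) :=
    Over.homMk (pullback.lift g.left T.hom (Over.w g)) (pullback.lift_snd _ _ _)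
  have key : ∀ v : T ⟶ Over.mk (pullback.snd H.hom h), FGA.hilbPull (pullback.snd f h) v Z'.1 = Y.1 ↔
      ∀ e : (v.left ≫ pullback.fst H.hom h) ≫ H.hom = ((Over.map h).obj T).hom,
        FGA.hilbPull f (Over.homMk (v.left ≫ pullback.fst H.hom h) e) Z.1 = Y₀.1 := fun v => by
    have w : (v.left ≫ pullback.fst H.hom h) ≫ H.hom = T.hom ≫ h := by
      rw [Category.assoc, pullback.condition, ← Category.assoc]
      exact congrArg (· ≫ h) (Over.w v)
    have e : ∀ e', (FGA.hilbPull (pullback.snd f h) v Z'.1).comap κ.hom =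
        FGA.hilbPull f (Over.homMk (v.left ≫ pullback.fst H.hom h) e') Z.1 := fun e' => by
      rw [hilbPull_eq, hilbPull_eq, hZ']
      simp only [← Scheme.IdealSheafData.comap_comp]
      congr 1
      refine pullback.hom_ext ?_ ?_ <;> simp [HilbPts.m, κ]
    refine ⟨fun hv e' => by rw [← e e', hv], fun hv => ?_⟩
    have h2 := congrArg (fun I => I.comap κ.inv) ((e w).trans (hv w))
    simp only [Y₀, ← Scheme.IdealSheafData.comap_comp, Iso.inv_hom_id, Scheme.IdealSheafData.comap_id] at h2
    exact h2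
  refine ⟨u, (key u).2 fun e => ?_, fun v hv => ?_⟩
  · convert hg using 2
    exact Over.OverMorphism.ext (by simp [u])
  · have w : (v.left ≫ pullback.fst H.hom h) ≫ H.hom = T.hom ≫ h := by
      rw [Category.assoc, pullback.condition, ← Category.assoc]
      exact congrArg (· ≫ h) (Over.w v)
    have h3 := congrArg CommaMorphism.left (huniq (Over.homMk (v.left ≫ pullback.fst H.hom h) w) ((key v).1 hv w))
    refine Over.OverMorphism.ext (pullback.hom_ext ?_ ?_)
    · simpa [u] using h3
    · simpa [u] using Over.w v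

end MorSch

end
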