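import Groth.Agent.H0Lib.IsoLocus
import Groth.Agent.FibreIsoLib.Main

/-!
# The open locus of the base where a morphism becomes an isomorphism after base change
-/

set_option autoImplicit false
set_option linter.style.haveILetI false
set_option linter.unusedSectionVars false
set_option backward.isDefEq.respectTransparency false
set_option backward.isDefEq.respectTransparency.types false

universe u

open CategoryTheory CategoryTheory.Limits AlgebraicGeometry TopologicalSpace

noncomputable section

namespace MorSch

variable {X Y S : Scheme.{u}}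

theorem isIso_snd_congr (f : X ⟶ Y) {T T' : Scheme.{u}} (j : T ⟶ Y) (j' : T' ⟶ Y) (e : T' ≅ T)
    (he : e.hom ≫ j = j') : IsIso (pullback.snd f j') ↔ IsIso (pullback.snd f j) := by
  subst he
  refine ⟨fun h => ?_, fun h => FibreIsoLib.isIso_snd_comp f j e.hom⟩
  haveI := h
  have := FibreIsoLib.isIso_snd_comp f (e.hom ≫ j) e.inv
  rwa [Iso.inv_hom_id_assoc] at this

/-- The base change of a morphism of proper flat schemes is an isomorphism exactly over an open of the base. -/
theorem exists_open_bc (f : X ⟶ Y) (h : Y ⟶ S) [IsProper f] [UniversallyClosed h]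
    [LocallyOfFinitePresentation (f ≫ h)] [Flat (f ≫ h)] [LocallyOfFinitePresentation h] :
    ∃ U : S.Opens, ∀ (T : Scheme.{u}) (t : T ⟶ S),
      Set.range t ⊆ (U : Set S) ↔ IsIso (pullback.snd f (pullback.fst h t)) := by
  obtain ⟨U, hU, hiso⟩ := H0Lib.exists_isoLocus f h
  refine ⟨U, fun T t => ⟨fun ht => ?_, fun ht => ?_⟩⟩
  · haveI : IsIso (pullback.snd f (h ⁻¹ᵁ U).ι) := by
      rw [← (isPullback_morphismRestrict f (h ⁻¹ᵁ U)).flip.isoPullback_inv_snd]
      infer_instance
    let a := IsOpenImmersion.lift (h ⁻¹ᵁ U).ι (pullback.fst h t) (by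
      rw [Scheme.Opens.range_ι]
      rintro _ ⟨z, rfl⟩
      show h (pullback.fst h t z) ∈ U
      rw [← Scheme.Hom.comp_apply, pullback.condition, Scheme.Hom.comp_apply]
      exact ht ⟨_, rfl⟩)
    have := FibreIsoLib.isIso_snd_comp f (h ⁻¹ᵁ U).ι a
    rwa [IsOpenImmersion.lift_fac] at this
  · rintro _ ⟨x, rfl⟩
    haveI := ht
    rw [SetLike.mem_coe, hU]
    refine (FibreIsoLib.isIso_snd_point_iff f h (K := T.residueField x) (T.fromSpecResidueField x ≫ t) (t x)
      fun z => ?_).1 ?_
    · rw [Scheme.Hom.comp_apply]; exact congrArg t (Scheme.fromSpecResidueField_apply x z)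
    · let a : pullback h (T.fromSpecResidueField x ≫ t) ⟶ pullback h t :=
        pullback.lift (pullback.fst _ _) (pullback.snd _ _ ≫ T.fromSpecResidueField x)
          (by rw [pullback.condition, Category.assoc])
      have := FibreIsoLib.isIso_snd_comp f (pullback.fst h t) a
      rwa [pullback.lift_fst] at this

end MorSch

end
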